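import Cfsg.Agent.SelfCentNC.Local
import Cfsg.Agent.KnownSimple58.PSLTwoClasses
import Cfsg.Agent.MaxSub.BinaryPSL.InvData
import Cfsg.Agent.Lib.Dickson.Tori
import Cfsg.Agent.S3920
import Mathlib.FieldTheory.IsAlgClosed.AlgebraicClosure
import Mathlib.RingTheory.IntegralDomain

/-!
# Self-centralising non-cyclic subgroups: `PSL(2, q)`
-/

set_option autoImplicit false
set_option linter.unusedSectionVars false

namespace Cfsg.Agent.SelfCentNC

open Matrix SL2Tor

variable {F : Type*} [Field F] [Fintype F]

local notation "SL2" => Matrix.SpecialLinearGroup (Fin 2) F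
local notation "PSL2" => Matrix.ProjectiveSpecialLinearGroup (Fin 2) F
local notation "q" => Fintype.card F

theorem two_ne_zero_iff : (2 : F) ≠ 0 ↔ Odd q := by
  constructor
  · intro h
    by_contra hodd
    rw [Nat.not_odd_iff_even] at hodd
    refine h ?_
    have hc : ringChar F = 2 := FiniteField.even_card_iff_char_two.mpr (Nat.even_iff.mp hodd)
    exact_mod_cast (ringChar.spec F 2).mpr (by rw [hc])
  · intro hodd h2
    have hc : ringChar F ∣ 2 := (ringChar.spec F 2).mp (by exact_mod_cast h2)
    rcases (Nat.dvd_prime Nat.prime_two).mp hc with h | h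
    · exact CharP.ringChar_ne_one h
    · have h0 := FiniteField.even_card_iff_char_two.mp h
      rw [Nat.odd_iff] at hodd
      omega

/-- The centraliser of an involution is dihedral. -/
theorem involution_cent (h2 : (2 : F) ≠ 0) {g : PSL2} (hg : orderOf g = 2) :
    ∃ n : ℕ, 2 ≤ n ∧ Even n ∧ (2 * n + 1 = q ∨ 2 * n = q + 1) ∧
      Nonempty (Subgroup.centralizer ({g} : Set PSL2) ≃* DihedralGroup n) := by
  obtain ⟨z, N, n, e, hn2, hneven, hz, hC, -, hkind, -⟩ :=
    MaxSub.BinaryPSL.exists_centralizer_dihedral' (F := F) h2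
  obtain ⟨c, rfl⟩ := Dickson.isConj_involutions h2 hz hg
  refine ⟨n, hn2, hneven, hkind, ⟨?_⟩⟩
  have hmap : Subgroup.centralizer ({c * z * c⁻¹} : Set PSL2) =
      (Subgroup.centralizer ({z} : Set PSL2)).map (MulAut.conj c).toMonoidHom := by
    ext x
    rw [Subgroup.mem_centralizer_singleton_iff]
    constructor
    · intro hx
      refine ⟨c⁻¹ * x * c, Subgroup.mem_centralizer_singleton_iff.mpr ?_, by simp [mul_assoc]⟩
      calc c⁻¹ * x * c * z = c⁻¹ * (x * (c * z * c⁻¹)) * c := by group
        _ = c⁻¹ * (c * z * c⁻¹ * x) * c := by rw [hx]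
        _ = z * (c⁻¹ * x * c) := by group
    · rintro ⟨y, hy, rfl⟩
      have hy' := Subgroup.mem_centralizer_singleton_iff.mp hy
      simp only [MulEquiv.coe_toMonoidHom, MulAut.conj_apply]
      calc c * y * c⁻¹ * (c * z * c⁻¹) = c * (y * z) * c⁻¹ := by group
        _ = c * (z * y) * c⁻¹ := by rw [hy']
        _ = c * z * c⁻¹ * (c * y * c⁻¹) := by group
  exact (MulEquiv.subgroupCongr hmap).trans
    ((Subgroup.equivMapOfInjective _ (MulAut.conj c).toMonoidHom (MulAut.conj c).injective).symm.trans
      ((MulEquiv.subgroupCongr hC).trans e))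

/-- An odd prime power next to a power of two is a prime or nine. -/
theorem prime_or_nine {p f k n : ℕ} (hp : p.Prime) (hp2 : p ≠ 2) (hn : Even n)
    (hk : 2 * n = 2 ^ k) (hkind : 2 * n + 1 = p ^ f ∨ 2 * n = p ^ f + 1) :
    p ^ f = 9 ∨ ((p ^ f).Prime ∧ ∃ j : ℕ, p ^ f = 2 ^ j + 1 ∨ p ^ f = 2 ^ j - 1) := by
  have hj : ∃ j : ℕ, p ^ f = 2 ^ j + 1 ∨ p ^ f = 2 ^ j - 1 :=
    ⟨k, by rcases hkind with h | h <;> omega⟩
  have hpo : Odd p := hp.odd_of_ne_two hp2
  have hf0 : f ≠ 0 := by
    rintro rfl
    rw [pow_zero] at hkind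
    obtain ⟨r, rfl⟩ := hn
    rcases hkind with h | h
    · have := Nat.two_pow_pos k; omega
    · omega
  rcases Nat.eq_or_lt_of_le (Nat.one_le_iff_ne_zero.mpr hf0) with h1 | h1
  · subst h1
    rw [pow_one] at hj ⊢
    exact Or.inr ⟨hp, hj⟩
  left
  obtain ⟨r, rfl⟩ := hn
  rcases Nat.even_or_odd f with ⟨e, rfl⟩ | hodd
  · -- a square
    have he : 0 < e := by omega
    obtain ⟨a, ha⟩ : ∃ a, a = p ^ e := ⟨_, rfl⟩
    rw [pow_add, ← ha] at hkind ⊢
    have hao : Odd a := ha ▸ hpo.pow
    obtain ⟨b, rfl⟩ := hao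
    rcases hkind with h | h
    · have h3 : b * (b + 1) = r := by linarith
      have h4 : 4 * (b * (b + 1)) = 2 ^ k := by rw [h3, ← hk]; ring
      have hb : b ∣ 2 ^ k := ⟨4 * (b + 1), by rw [← h4]; ring⟩
      have hb' : b + 1 ∣ 2 ^ k := ⟨4 * b, by rw [← h4]; ring⟩
      obtain ⟨i, -, hi⟩ := (Nat.dvd_prime_pow Nat.prime_two).mp hb
      obtain ⟨i', -, hi'⟩ := (Nat.dvd_prime_pow Nat.prime_two).mp hb'
      rcases Nat.eq_zero_or_pos i with rfl | hipos
      · rw [pow_zero] at hi; subst hi; norm_num
      · have e1 : 2 ∣ b := hi ▸ dvd_pow_self 2 hipos.ne'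
        rcases Nat.eq_zero_or_pos i' with rfl | hipos'
        · rw [pow_zero] at hi'
          have : 0 < b := hi ▸ Nat.two_pow_pos i
          omega
        · have e2 : 2 ∣ b + 1 := hi' ▸ dvd_pow_self 2 hipos'.ne'
          omega
    · exfalso
      have h5 : (2 * b + 1) * (2 * b + 1) = 4 * (b * b + b) + 1 := by ring
      rw [h5] at h
      omega
  · exfalso
    obtain ⟨e, rfl⟩ := hodd
    have hp3 : 3 ≤ p := by have := hp.two_le; omega
    rcases hkind with h | h
    · -- `p - 1` times an odd number greater than one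
      have hgeom : (∑ i ∈ Finset.range (2 * e + 1), p ^ i) * (p - 1) = 2 ^ k := by
        have := Nat.geomSum_eq (show 2 ≤ p by omega) (2 * e + 1)
        rw [this, Nat.div_mul_cancel (Nat.sub_one_dvd_pow_sub_one p _), ← h, ← hk]
        omega
      have hoddsum : Odd (∑ i ∈ Finset.range (2 * e + 1), p ^ i) := by
        rw [Finset.odd_sum_iff_odd_card_odd]
        have : (Finset.range (2 * e + 1)).filter (fun i => Odd (p ^ i)) = Finset.range (2 * e + 1) :=
          Finset.filter_true_of_mem fun i _ => hpo.pow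
        rw [this, Finset.card_range]
        exact odd_two_mul_add_one e
      obtain ⟨i, -, hi⟩ := (Nat.dvd_prime_pow Nat.prime_two).mp (Dvd.intro _ hgeom)
      have hlt : 1 < ∑ i ∈ Finset.range (2 * e + 1), p ^ i := by
        calc 1 < p ^ 0 + p ^ 1 := by simp; omega
          _ = ∑ i ∈ Finset.range 2, p ^ i := by simp [Finset.sum_range_succ]
          _ ≤ _ := Finset.sum_le_sum_of_subset (Finset.range_mono (by omega))
      rw [hi] at hoddsum hlt
      rcases Nat.eq_zero_or_pos i with rfl | hipos
      · simp at hlt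
      · exact Nat.not_even_iff_odd.mpr hoddsum (Nat.even_pow.mpr ⟨even_two, hipos.ne'⟩)
    · -- `p + 1` times an odd number greater than one
      obtain ⟨T, hT, hT0⟩ : ∃ T : ℤ, (p : ℤ) ^ (2 * e + 1) + 1 = ((p : ℤ) + 1) * T ∧
          T = ∑ i ∈ Finset.range (2 * e + 1), (-(p : ℤ)) ^ i := by
        refine ⟨_, ?_, rfl⟩
        have := geom_sum_mul (-(p : ℤ)) (2 * e + 1)
        rw [Odd.neg_pow (odd_two_mul_add_one e)] at this
        linear_combination this
      have hTodd : Odd T := by
        have ho : ∀ i : ℕ, Odd ((-(p : ℤ)) ^ i) := fun i => ((Int.odd_coe_nat _).mpr hpo).neg.pow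
        have hall : ∀ m : ℕ, Odd (∑ i ∈ Finset.range (2 * m + 1), (-(p : ℤ)) ^ i) := by
          intro m
          induction m with
          | zero => simp
          | succ m ih =>
            rw [show 2 * (m + 1) + 1 = 2 * m + 1 + 1 + 1 by ring, Finset.sum_range_succ,
              Finset.sum_range_succ, add_assoc]
            exact ih.add_even ((ho _).add_odd (ho _))
        rw [hT0]
        exact hall e
      have hk' : ((2 : ℤ) ^ k) = ((p : ℤ) + 1) * T := by
        rw [← hT]
        have : (2 : ℕ) ^ k = p ^ (2 * e + 1) + 1 := by omega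
        exact_mod_cast this
      have hTd : T.natAbs ∣ 2 ^ k := by
        have h6 : T ∣ (2 : ℤ) ^ k := ⟨_, hk'.trans (mul_comm _ _)⟩
        have := Int.natAbs_dvd_natAbs.mpr h6
        simpa [Int.natAbs_pow] using this
      obtain ⟨i, -, hi⟩ := (Nat.dvd_prime_pow Nat.prime_two).mp hTd
      rcases Nat.eq_zero_or_pos i with rfl | hipos
      · rw [pow_zero] at hi
        have h7 : p ^ (2 * e + 1) + 1 = p + 1 := by
          have h8 : ((p : ℤ) ^ (2 * e + 1) + 1).natAbs = ((p : ℤ) + 1).natAbs := by
            rw [hT, Int.natAbs_mul, hi, mul_one]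
          rw [show ((p : ℤ) ^ (2 * e + 1) + 1) = ((p ^ (2 * e + 1) + 1 : ℕ) : ℤ) by push_cast; ring,
            show ((p : ℤ) + 1) = ((p + 1 : ℕ) : ℤ) by push_cast; ring, Int.natAbs_natCast,
            Int.natAbs_natCast] at h8
          exact h8
        have h9 : p ^ (2 * e + 1) = p ^ 1 := by rw [pow_one]; omega
        have := Nat.pow_right_injective hp.two_le h9
        omega
      · have h10 := Int.natAbs_odd.mpr hTodd
        rw [hi] at h10
        exact Nat.not_even_iff_odd.mpr h10 (Nat.even_pow.mpr ⟨even_two, hipos.ne'⟩)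

/-- The centraliser in `SL(2, q)` of a semisimple element is cyclic. -/
theorem cyclic_centralizer (A : SL2) (hA : ¬ IsScalar (A : Matrix (Fin 2) (Fin 2) F))
    (h4 : (A : Matrix (Fin 2) (Fin 2) F).trace ^ 2 ≠ 4) :
    IsCyclic ↥(Subgroup.centralizer ({A} : Set SL2)) := by
  classical
  set M := (A : Matrix (Fin 2) (Fin 2) F) with hM
  let K := AlgebraicClosure F
  set ι := algebraMap F K
  obtain ⟨α, hα⟩ : ∃ α : K, α ^ 2 - ι M.trace * α + 1 = 0 := by
    have hdeg : (Polynomial.X ^ 2 - Polynomial.C (ι M.trace) * Polynomial.X + 1).degree ≠ 0 := by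
      have : (Polynomial.X ^ 2 - Polynomial.C (ι M.trace) * Polynomial.X + 1).degree = 2 := by
        compute_degree!
      rw [this]; decide
    obtain ⟨α, hα⟩ := IsAlgClosed.exists_root _ hdeg
    exact ⟨α, by simpa [Polynomial.IsRoot] using hα⟩
  have hex : ∀ B : Subgroup.centralizer ({A} : Set SL2), ∃ p : F × F,
      ((B : SL2) : Matrix (Fin 2) (Fin 2) F) = p.1 • 1 + p.2 • M := fun B => by
    have hcomm : (B : SL2) * A = A * (B : SL2) := Subgroup.mem_centralizer_singleton_iff.mp B.2
    obtain ⟨x, y, h⟩ := KS58.exists_eq_add_smul hA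
      (congrArg Subtype.val hcomm).symm
    exact ⟨(x, y), h⟩
  have huniq : ∀ x y x' y' : F, x • (1 : Matrix (Fin 2) (Fin 2) F) + y • M = x' • 1 + y' • M →
      x = x' ∧ y = y' := by
    intro x y x' y' e
    have e00 := congrFun (congrFun e 0) 0
    have e01 := congrFun (congrFun e 0) 1
    have e10 := congrFun (congrFun e 1) 0
    have e11 := congrFun (congrFun e 1) 1
    simp at e00 e01 e10 e11
    have hy : y = y' := by
      by_contra hne
      refine hA ⟨?_, ?_, ?_⟩
      · exact e01.resolve_left hne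
      · exact e10.resolve_left hne
      · exact mul_left_cancel₀ (sub_ne_zero.mpr hne) (by linear_combination e00 - e11)
    subst hy
    exact ⟨by linear_combination e00, rfl⟩
  choose c hc using hex
  have hdet := A.2
  rw [det_fin_two] at hdet
  have hsq : M * M = M.trace • M - 1 := by
    ext i j
    fin_cases i <;> fin_cases j <;>
      simp [hM, Matrix.mul_apply, Fin.sum_univ_two, trace_fin_two]
    · linear_combination -hdet
    · ring
    · ring
    · linear_combination -hdet
  let f : Subgroup.centralizer ({A} : Set SL2) →* K :=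
    { toFun := fun B => ι (c B).1 + ι (c B).2 * α
      map_one' := by
        obtain ⟨e1, e2⟩ := huniq (c 1).1 (c 1).2 1 0 (by rw [← hc 1]; simp)
        rw [e1, e2]; simp
      map_mul' := fun B B' => by
        obtain ⟨e1, e2⟩ := huniq (c (B * B')).1 (c (B * B')).2
          ((c B).1 * (c B').1 - (c B).2 * (c B').2)
          ((c B).1 * (c B').2 + (c B).2 * (c B').1 + M.trace * ((c B).2 * (c B').2)) (by
            rw [← hc (B * B'), Subgroup.coe_mul, Matrix.SpecialLinearGroup.coe_mul, hc B, hc B']
            simp only [add_mul, mul_add, smul_mul_smul_comm, one_mul, mul_one, hsq, smul_sub, smul_smul]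
            module)
        rw [e1, e2]
        simp only [map_add, map_sub, map_mul]
        linear_combination (-(ι (c B).2 * ι (c B').2)) * hα }
  refine isCyclic_of_injective_ringHom f ((injective_iff_map_eq_one f).mpr fun B hB => ?_)
  have hB' : ι (c B).1 + ι (c B).2 * α = 1 := hB
  have hd := ((B : SL2)).2
  rw [hc B, det_fin_two] at hd
  simp at hd
  have hN : ι ((c B).1 * (c B).1 + M.trace * ((c B).1 * (c B).2) + (c B).2 * (c B).2) = 1 := by
    rw [← map_one ι]
    congr 1
    rw [trace_fin_two]
    linear_combination hd - ((c B).2 * (c B).2) * hdet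
  simp only [map_add, map_mul] at hN
  have hβ : ι (c B).1 + ι (c B).2 * (ι M.trace - α) = 1 := by
    linear_combination hN - (ι (c B).1 + ι (c B).2 * (ι M.trace - α)) * hB' -
      (ι (c B).2 * ι (c B).2) * hα
  have hy0 : ι (c B).2 * (α - (ι M.trace - α)) = 0 := by linear_combination hB' - hβ
  rcases mul_eq_zero.mp hy0 with h | h
  · have hy : (c B).2 = 0 := (map_eq_zero ι).mp h
    rw [h, zero_mul, add_zero, ← map_one ι] at hB'
    have hx : (c B).1 = 1 := ι.injective hB'
    refine Subtype.ext (Subtype.ext ?_)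
    rw [hc B, hx, hy]
    simp
  · exfalso
    refine h4 ((algebraMap F K).injective ?_)
    show ι (M.trace ^ 2) = ι 4
    rw [map_pow, show ι 4 = 4 from map_ofNat _ 4]
    linear_combination (-4) * hα + (2 * α - ι M.trace) * h

/-- For a non-zero trace, or in characteristic two, centralisers lift. -/
theorem cent_eq_map (A : SL2)
    (ht : (A : Matrix (Fin 2) (Fin 2) F).trace + (A : Matrix (Fin 2) (Fin 2) F).trace ≠ 0 ∨ (2 : F) = 0) :
    Subgroup.centralizer ({(QuotientGroup.mk A : PSL2)} : Set PSL2) =
      (Subgroup.centralizer ({A} : Set SL2)).map (QuotientGroup.mk' _) := by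
  refine le_antisymm ?_ ?_
  · intro x hx
    obtain ⟨g, rfl⟩ := QuotientGroup.mk_surjective x
    refine ⟨g, ?_, rfl⟩
    rw [SetLike.mem_coe, Subgroup.mem_centralizer_singleton_iff, ← mul_inv_eq_iff_eq_mul]
    rcases (KS58.mem_preimage_centralizer A g).mp (Subgroup.mem_comap.mpr hx) with h | h
    · exact h
    rcases ht with ht | h2
    · exfalso
      have := congrArg (fun X : SL2 => (X : Matrix (Fin 2) (Fin 2) F).trace) h
      simp only [SL2Tor.trace_conj] at this
      rw [Matrix.SpecialLinearGroup.coe_neg, Matrix.trace_neg] at this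
      exact ht (by linear_combination this)
    · rw [h]
      apply Subtype.ext
      rw [Matrix.SpecialLinearGroup.coe_neg]
      ext i j
      rw [Matrix.neg_apply, neg_eq_iff_add_eq_zero, ← two_mul, h2, zero_mul]
  · rintro _ ⟨g, hg, rfl⟩
    rw [Subgroup.mem_centralizer_singleton_iff]
    show (QuotientGroup.mk (g * A) : PSL2) = QuotientGroup.mk (A * g)
    rw [Subgroup.mem_centralizer_singleton_iff.mp hg]

/-- The parameters for which the non-cyclic subgroups are self-centralising. -/
theorem scn_psl (hF : q = 4 ∨ q = 9 ∨ (Nat.Prime q ∧ ∃ k : ℕ, q = 2 ^ k + 1 ∨ q = 2 ^ k - 1)) :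
    SCN PSL2 := by
  intro H hH x hx
  by_contra hxH
  have hHC : H ≤ Subgroup.centralizer ({x} : Set PSL2) := fun y hy =>
    Subgroup.mem_centralizer_singleton_iff.mpr (Subgroup.mem_centralizer_iff.mp hx y hy)
  have hxC : x ∈ Subgroup.centralizer ({x} : Set PSL2) := Subgroup.mem_centralizer_singleton_iff.mpr rfl
  obtain ⟨A, rfl⟩ := QuotientGroup.mk_surjective x
  have hx1 : (QuotientGroup.mk A : PSL2) ≠ 1 := fun e => hxH (e ▸ H.one_mem)
  have hs : ¬ IsScalar (A : Matrix (Fin 2) (Fin 2) F) := fun h => hx1 ((psl_mk_eq_one_iff A).mpr h)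
  set M := (A : Matrix (Fin 2) (Fin 2) F) with hM
  by_cases h4 : M.trace ^ 2 = 4
  · -- unipotent
    have hcard : Nat.card (Subgroup.centralizer ({(QuotientGroup.mk A : PSL2)} : Set PSL2)) = q := by
      have hi := KS58.index_psl_parabolic A hs h4
      have hG := Dickson.card_psl_eq (F := F)
      have hq1 : 1 < q := Fintype.one_lt_card
      have hs2 : Nat.card {u : F // u ^ 2 = 1} = Nat.gcd 2 (q - 1) := by
        by_cases h2 : (2 : F) = 0
        · have he : ¬ Odd q := fun ho => two_ne_zero_iff.mpr ho h2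
          rw [KS58.card_sq_eq_one_even h2]
          symm
          rw [← Nat.coprime_iff_gcd_eq_one, Nat.coprime_two_left]
          exact Nat.Even.sub_odd hq1.le (Nat.not_odd_iff_even.mp he) odd_one
        · rw [KS58.card_sq_eq_one_odd h2]
          symm
          refine Nat.gcd_eq_left ?_
          obtain ⟨r, hr⟩ := two_ne_zero_iff.mp h2
          exact ⟨r, by omega⟩
      rw [hs2] at hi
      have hi2 : (Subgroup.centralizer ({(QuotientGroup.mk A : PSL2)} : Set PSL2)).index *
          Nat.gcd 2 (q - 1) = (q + 1) * (q - 1) := by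
        rw [hi, ← Nat.sq_sub_sq, one_pow]
      have hc := (Subgroup.centralizer ({(QuotientGroup.mk A : PSL2)} : Set PSL2)).card_mul_index
      rw [← hc] at hG
      have h5 : Nat.card (Subgroup.centralizer ({(QuotientGroup.mk A : PSL2)} : Set PSL2)) *
          ((q + 1) * (q - 1)) = q * ((q + 1) * (q - 1)) := by
        rw [← hi2]
        calc _ = Nat.gcd 2 (q - 1) * (Nat.card (Subgroup.centralizer ({(QuotientGroup.mk A : PSL2)} : Set PSL2)) *
              (Subgroup.centralizer ({(QuotientGroup.mk A : PSL2)} : Set PSL2)).index) := by ring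
          _ = (q + 1) * (q * (q - 1)) := hG
          _ = q * ((q + 1) * (q - 1)) := by ring
          _ = _ := by rw [hi2]
      exact Nat.eq_of_mul_eq_mul_right (Nat.mul_pos (by omega) (by omega)) h5
    have hd := Subgroup.card_dvd_of_le hHC
    rw [hcard] at hd
    have hnp : ¬ (Nat.card H).Prime := fun hp => by
      haveI := Fact.mk hp
      exact hH (isCyclic_of_prime_card rfl)
    have hn1 : Nat.card H ≠ 1 := fun h1 => by
      rw [Subgroup.card_eq_one.mp h1] at hH
      exact hH inferInstance
    have heq : Nat.card H = q := by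
      rcases hF with h | h | ⟨hp, -⟩
      · rw [h] at hd ⊢
        have := Nat.le_of_dvd (by norm_num) hd
        interval_cases hc : Nat.card H <;> norm_num at *
      · rw [h] at hd ⊢
        have := Nat.le_of_dvd (by norm_num) hd
        interval_cases hc : Nat.card H <;> norm_num at *
      · rcases (Nat.dvd_prime hp).mp hd with h | h
        · exact absurd h hn1
        · exact h
    exact hxH ((Subgroup.eq_of_le_of_card_ge hHC (by rw [hcard, heq])).symm ▸ hxC)
  by_cases ht : M.trace = 0 ∧ (2 : F) ≠ 0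
  · -- an involution
    obtain ⟨ht0, h2⟩ := ht
    have hdet := A.2
    rw [det_fin_two] at hdet
    rw [hM, trace_fin_two] at ht0
    have hA2 : A * A = -1 := by
      apply Subtype.ext
      rw [Matrix.SpecialLinearGroup.coe_mul, Matrix.SpecialLinearGroup.coe_neg,
        Matrix.SpecialLinearGroup.coe_one]
      ext i j
      fin_cases i <;> fin_cases j <;> simp [Matrix.mul_apply, Fin.sum_univ_two]
      · linear_combination -hdet + (A : Matrix (Fin 2) (Fin 2) F) 0 0 * ht0
      · linear_combination (A : Matrix (Fin 2) (Fin 2) F) 0 1 * ht0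
      · linear_combination (A : Matrix (Fin 2) (Fin 2) F) 1 0 * ht0
      · linear_combination -hdet + (A : Matrix (Fin 2) (Fin 2) F) 1 1 * ht0
    have hord : orderOf (QuotientGroup.mk A : PSL2) = 2 := by
      refine orderOf_eq_prime ?_ hx1
      rw [pow_two, ← QuotientGroup.mk_mul, hA2, psl_mk_neg, QuotientGroup.mk_one]
    obtain ⟨n, hn2, ⟨r, hr⟩, hkind, ⟨f⟩⟩ := involution_cent h2 hord
    have hodd := two_ne_zero_iff.mp h2
    have hpow : ∃ k, n = 2 ^ k := by
      have hsuff : ∃ k : ℕ, 2 * n = 2 ^ k := by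
        rcases hF with h | h | ⟨-, k, hk⟩
        · rw [h] at hodd; exact absurd hodd (by decide)
        · exact ⟨3, by norm_num; omega⟩
        · by_cases hn2' : n = 2
          · exact ⟨2, by rw [hn2']; norm_num⟩
          refine ⟨k, ?_⟩
          obtain ⟨o, ho⟩ := hodd
          have hk2 : 2 ≤ k := by
            by_contra hlt
            interval_cases k <;> norm_num at hk <;> omega
          obtain ⟨k', rfl⟩ : ∃ k', k = k' + 2 := ⟨k - 2, by omega⟩
          rw [pow_add] at hk ⊢
          omega
      obtain ⟨k, hk⟩ := hsuff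
      obtain ⟨j, -, hj⟩ := (Nat.dvd_prime_pow Nat.prime_two).mp (⟨2, by rw [← hk]; ring⟩ : n ∣ 2 ^ k)
      exact ⟨j, hj⟩
    rcases Nat.lt_or_ge n 3 with hlt | hge
    · have hn : n = 2 := by omega
      subst hn
      have hd := Subgroup.card_dvd_of_le hHC
      rw [Nat.card_congr f.toEquiv, DihedralGroup.nat_card] at hd
      have hle := Nat.le_of_dvd (by norm_num) hd
      have hcases : Nat.card H = 1 ∨ Nat.card H = 2 ∨ Nat.card H = 4 := by
        interval_cases hc : Nat.card H <;> norm_num at *
      rcases hcases with h | h | h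
      · rw [Subgroup.card_eq_one.mp h] at hH; exact hH inferInstance
      · haveI := Fact.mk Nat.prime_two
        exact hH (isCyclic_of_prime_card h)
      · exact hxH ((Subgroup.eq_of_le_of_card_ge hHC
          (by rw [h, Nat.card_congr f.toEquiv, DihedralGroup.nat_card])).symm ▸ hxC)
    · have hscn := SCN.of_mulEquiv f (show SCN (DihedralGroup n) from
        (Cfsg.Agent.S3920.result n hge).mpr (Or.inr hpow))
      set C := Subgroup.centralizer ({(QuotientGroup.mk A : PSL2)} : Set PSL2)
      have hnc : ¬ IsCyclic ↥(H.subgroupOf C) := fun hc =>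
        hH ((Subgroup.subgroupOfEquivOfLe hHC).isCyclic.mp hc)
      exact hxH (hscn _ hnc (x := ⟨_, hxC⟩) (Subgroup.mem_centralizer_iff.mpr fun y hy =>
        Subtype.ext (Subgroup.mem_centralizer_iff.mp hx _ hy)))
  · -- a torus
    have ht' : M.trace + M.trace ≠ 0 ∨ (2 : F) = 0 := by
      by_cases h2 : (2 : F) = 0
      · exact Or.inr h2
      · left
        intro e
        exact ht ⟨(mul_eq_zero.mp (show (2 : F) * M.trace = 0 by linear_combination e)).resolve_left h2, h2⟩
    haveI := cyclic_centralizer A hs h4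
    haveI : IsCyclic ↥(Subgroup.centralizer ({(QuotientGroup.mk A : PSL2)} : Set PSL2)) := by
      rw [cent_eq_map A ht']
      exact isCyclic_of_surjective
        ((QuotientGroup.mk' _).subgroupMap (Subgroup.centralizer ({A} : Set SL2)))
        ((QuotientGroup.mk' _).subgroupMap_surjective _)
    exact hH (isCyclic_of_injective (Subgroup.inclusion hHC) (Subgroup.inclusion_injective hHC))

end Cfsg.Agent.SelfCentNC
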