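import Cfsg.Agent.SelfCentNC.Local
import Cfsg.Agent.SelfCentNC.Transfer
import Cfsg.Agent.InvChar68.MaximalClass
import Cfsg.Agent.InvChar.ZStarApps
import Cfsg.Agent.S0508
import Cfsg.Agent.S0514
import Cfsg.Agent.S0225

/-!
# Self-centralising non-cyclic subgroups: simple groups
-/

set_option autoImplicit false
set_option linter.unusedSectionVars false

namespace Cfsg.Agent.SelfCentNC

open Subgroup Involution

variable {G : Type*} [Group G] [Finite G] [IsSimpleGroup G]

/-- The dihedral case. -/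
theorem dihedral_case (h : SCN G) (S : Sylow 2 G) (n : ℕ) (hn : 2 ≤ n)
    (hS : Nonempty ((S : Subgroup G) ≃* DihedralGroup n)) {z a : G} (hz : orderOf z = 2)
    (hzS : z ∈ (S : Subgroup G)) (hzc : ∀ s ∈ (S : Subgroup G), s * z = z * s)
    (ha : orderOf a = 2) (haS : a ∈ (S : Subgroup G)) (hne : a ≠ z) :
    (∃ k : ℕ, Nat.card (centralizer ({z} : Set G)) = 2 ^ k) ∧
      ∃ (F : Type) (_ : Field F) (_ : Fintype F), Odd (Fintype.card F) ∧
        Nonempty (G ≃* Matrix.ProjectiveSpecialLinearGroup (Fin 2) F) := by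
  set C := centralizer ({z} : Set G) with hC
  have haz := hzc a haS
  have haC : a ∈ C := mem_centralizer_singleton.mpr haz
  have hbot : ∀ N : Subgroup C, N.Normal → Odd (Nat.card N) → N.map C.subtype = ⊥ := by
    intro N hN hodd
    refine odd_eq_bot h (mul_self_of_orderOf ha) (ne_one_of_orderOf ha) (mul_self_of_orderOf hz)
      (ne_one_of_orderOf hz) hne haz _ (by rwa [card_map_of_injective C.subtype_injective])
      (fun r hr => mem_centralizer_singleton.mp (map_subtype_le N hr)) ?_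
    rintro _ ⟨r, hr, rfl⟩
    exact ⟨_, hN.conj_mem r hr ⟨a, haC⟩, rfl⟩
  refine ⟨?_, ?_⟩
  · obtain ⟨M, hM, hModd, k, hk⟩ := S0514.result S n hn hS z hz
    have h0 : M = ⊥ := (map_eq_bot_iff_of_injective M C.subtype_injective).mp (hbot M hM hModd)
    rw [h0, index_bot] at hk
    exact ⟨k, hk⟩
  · have hO := hbot (Cfsg.oddCore C) (by unfold Cfsg.oddCore; infer_instance) InvChar.odd_oddCore
    refine S0508.result S n hn hS z hz hzS hzc _ hO.symm (fun h0 => absurd rfl h0) ?_ ?_
    · intro s _ hs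
      exact absurd (mem_centralizer_iff.mpr fun y hy => by
        rw [SetLike.mem_coe, mem_bot] at hy; simp [hy]) hs
    · intro Y hY hY0
      exact absurd (le_bot_iff.mp hY) hY0

/-- Quasi-dihedral Sylow 2-subgroups do not occur. -/
theorem not_quasiDihedral (h : SCN G) (hna : ¬ IsMulCommutative G) (S : Sylow 2 G)
    (hS : Cfsg.IsQuasiDihedral (S : Subgroup G)) : False := by
  haveI : Fact (Nat.Prime 2) := ⟨Nat.prime_two⟩
  obtain ⟨n, hn, hcard, ⟨r, hrS⟩, ⟨y, hyS⟩, hro, hyo, hyr⟩ := hS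
  rw [orderOf_mk] at hro hyo
  have hyr' : y * r * y⁻¹ = r ^ (2 ^ (n - 1) - 1) := congrArg Subtype.val hyr
  clear hyr
  obtain ⟨m, rfl⟩ : ∃ m, n = m + 3 := ⟨n - 3, by omega⟩
  obtain ⟨E, hE⟩ : ∃ E, E = 2 ^ (m + 3 - 1) - 1 := ⟨_, rfl⟩
  rw [← hE] at hyr'
  obtain ⟨P, hP0⟩ : ∃ P, P = 2 ^ m := ⟨_, rfl⟩
  have hPpos : 0 < P := hP0 ▸ Nat.two_pow_pos m
  have hE' : E = 4 * P - 1 := by
    rw [hE, hP0, show m + 3 - 1 = m + 2 by omega, pow_add]; ring_nf
  have hro' : orderOf r = 8 * P := by rw [hro, hP0, pow_add]; ring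
  have hmod : ∀ i j : ℕ, r ^ i = r ^ j ↔ i % (8 * P) = j % (8 * P) := fun i j => by
    rw [pow_eq_pow_iff_modEq, hro']; rfl
  have hy2 : y * y = 1 := mul_self_of_orderOf hyo
  have hyi : y⁻¹ = y := inv_of_orderOf hyo
  have hy1 : y ≠ 1 := ne_one_of_orderOf hyo
  have hconj : ∀ i : ℕ, y * r ^ i = r ^ (E * i) * y := by
    intro i
    rw [pow_mul, ← hyr', conj_pow, inv_mul_cancel_right]
  -- `y` is not a power of `r`
  have hyr2 : ∀ i : ℕ, y ≠ r ^ i := by
    intro i hi
    have h1 := hconj 1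
    rw [pow_one, mul_one, hi, ← pow_succ, ← pow_add, hmod] at h1
    have h2 : (i + 1 + (E + i) - (i + 1) - (i + 1)) = E - 1 := by omega
    rcases Nat.lt_or_ge ((E + i) % (8 * P)) (8 * P) with h3 | h3
    · have h4 : (1 : ℕ) % (8 * P) = E % (8 * P) := by
        have h5 : Nat.ModEq (8 * P) (1 + i) (E + i) := by rw [Nat.add_comm 1 i]; exact h1
        exact Nat.ModEq.add_right_cancel' i h5
      rw [Nat.mod_eq_of_lt (by omega), Nat.mod_eq_of_lt (by omega)] at h4
      omega
    · exact absurd (Nat.mod_lt (E + i) (by omega)) (not_lt.mpr h3)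
  -- the elements of `S`
  have hSelt : ∀ s ∈ (S : Subgroup G), ∃ i : ℕ, s = r ^ i ∨ s = r ^ i * y := by
    classical
    haveI := Fintype.ofFinite (S : Subgroup G)
    let f : Fin (8 * P) × Bool → (S : Subgroup G) := fun p =>
      ⟨if p.2 then r ^ (p.1 : ℕ) * y else r ^ (p.1 : ℕ), by
        cases p.2
        · exact pow_mem hrS _
        · exact mul_mem (pow_mem hrS _) hyS⟩
    have hf : Function.Bijective f := by
      refine (Fintype.bijective_iff_injective_and_card f).mpr ⟨?_, ?_⟩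
      · rintro ⟨i, b⟩ ⟨j, c⟩ hij
        have h1 := congrArg Subtype.val hij
        cases b <;> cases c <;> simp only [f, Bool.false_eq_true, if_false, if_true] at h1
        · exact Prod.ext (Fin.ext (by
            have := (hmod _ _).mp h1
            rwa [Nat.mod_eq_of_lt i.2, Nat.mod_eq_of_lt j.2] at this)) rfl
        · exfalso
          apply hyr2 ((8 * P - j) + (i : ℕ))
          rw [pow_add, h1, ← mul_assoc, ← pow_add,
            show 8 * P - (j : ℕ) + (j : ℕ) = 8 * P by omega, ← hro', pow_orderOf_eq_one, one_mul]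
        · exfalso
          apply hyr2 ((8 * P - i) + (j : ℕ))
          rw [pow_add, ← h1, ← mul_assoc, ← pow_add,
            show 8 * P - (i : ℕ) + (i : ℕ) = 8 * P by omega, ← hro', pow_orderOf_eq_one, one_mul]
        · exact Prod.ext (Fin.ext (by
            have := (hmod _ _).mp (mul_right_cancel h1)
            rwa [Nat.mod_eq_of_lt i.2, Nat.mod_eq_of_lt j.2] at this)) rfl
      · rw [Fintype.card_prod, Fintype.card_bool, Fintype.card_fin, ← Nat.card_eq_fintype_card,
          hcard, hP0, pow_add]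
        ring
    intro s hs
    obtain ⟨⟨i, b⟩, hib⟩ := hf.2 ⟨s, hs⟩
    refine ⟨i, ?_⟩
    have := congrArg Subtype.val hib
    cases b
    · exact Or.inl this.symm
    · exact Or.inr this.symm
  -- the distinguished elements
  set z := r ^ (4 * P) with hz
  have hz1 : z ≠ 1 := by
    rw [hz, ← pow_zero r, ne_eq, hmod, Nat.mod_eq_of_lt (by omega), Nat.zero_mod]; omega
  have hz2 : z * z = 1 := by
    rw [hz, ← pow_add, show 4 * P + 4 * P = 8 * P by ring, ← hro', pow_orderOf_eq_one]
  have hzo : orderOf z = 2 := orderOf_eq_prime (by rw [pow_two]; exact hz2) hz1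
  have hodd : ∀ q : ℕ, q % 2 = 1 → r ^ (q * (4 * P)) = z := fun q hq => by
    rw [mul_comm, pow_mul, ← hz, ← Nat.div_add_mod q 2, hq, pow_succ, pow_mul, pow_two, hz2,
      one_pow, one_mul]
  have hyz : y * z = z * y := by rw [hz, hconj, hodd E (by omega)]
  have hSz : ∀ s ∈ (S : Subgroup G), s * z = z * s := by
    intro s hs
    obtain ⟨i, rfl | rfl⟩ := hSelt s hs
    · exact ((Commute.refl r).pow_pow i (4 * P)).eq
    · exact (((Commute.refl r).pow_pow i (4 * P)).mul_left (hyz : Commute y z)).eq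
  set C := centralizer ({z} : Set G) with hC
  have hSC : (S : Subgroup G) ≤ C := fun s hs => mem_centralizer_singleton.mpr (hSz s hs)
  have hyy : ∀ i j : ℕ, r ^ i * y * (r ^ j * y) = r ^ (i + E * j) := fun i j => by
    rw [mul_assoc, ← mul_assoc y, hconj, mul_assoc, hy2, mul_one, ← pow_add]
  -- the dihedral subgroup of index two
  let D : Subgroup G :=
    { carrier := {g | ∃ i : ℕ, g = r ^ (2 * i) ∨ g = r ^ (2 * i) * y}
      one_mem' := ⟨0, Or.inl (by rw [Nat.mul_zero, pow_zero])⟩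
      mul_mem' := by
        rintro p q ⟨i, rfl | rfl⟩ ⟨j, rfl | rfl⟩
        · exact ⟨i + j, Or.inl (by rw [← pow_add, mul_add])⟩
        · exact ⟨i + j, Or.inr (by rw [← mul_assoc, ← pow_add, mul_add])⟩
        · exact ⟨i + E * j, Or.inr (by
            rw [mul_assoc, hconj, ← mul_assoc, ← pow_add, mul_add, mul_left_comm])⟩
        · exact ⟨i + E * j, Or.inl (by rw [hyy, mul_add, mul_left_comm])⟩
      inv_mem' := by
        rintro p ⟨i, rfl | rfl⟩
        · refine ⟨(4 * P - 1) * i, Or.inl (inv_eq_of_mul_eq_one_right ?_)⟩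
          rw [← pow_add, show 2 * i + 2 * ((4 * P - 1) * i) = (8 * P) * i by
            obtain ⟨t, ht⟩ : ∃ t, 4 * P = t + 1 := ⟨4 * P - 1, by omega⟩
            rw [show 8 * P = 2 * (t + 1) by omega, ht, Nat.add_sub_cancel]; ring,
            pow_mul, ← hro', pow_orderOf_eq_one, one_pow]
        · refine ⟨i, Or.inr (inv_eq_of_mul_eq_one_right ?_)⟩
          rw [hyy, ← pow_zero r, hmod,
            show 2 * i + E * (2 * i) = (8 * P) * i by
              obtain ⟨t, ht⟩ : ∃ t, 4 * P = t + 1 := ⟨4 * P - 1, by omega⟩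
              rw [hE', show 8 * P = 2 * (t + 1) by omega, ht, Nat.add_sub_cancel]; ring]
          simp }
  have hDmem : ∀ {g : G}, g ∈ D ↔ ∃ i : ℕ, g = r ^ (2 * i) ∨ g = r ^ (2 * i) * y := Iff.rfl
  have hrD : ∀ i : ℕ, r ^ (2 * i + 1) ∉ D ∧ r ^ (2 * i + 1) * y ∉ D := by
    have hpar : ∀ a b : ℕ, a % (8 * P) = b % (8 * P) → a % 2 = b % 2 := fun a b hab =>
      Nat.ModEq.of_dvd (dvd_mul_of_dvd_left (by norm_num) P) hab
    intro i
    constructor <;> intro hh <;> obtain ⟨j, hj | hj⟩ := hDmem.mp hh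
    · have := hpar _ _ ((hmod _ _).mp hj); omega
    · refine hyr2 ((8 * P - 1) * (2 * j) + (2 * i + 1)) ?_
      rw [pow_add, hj, ← mul_assoc, ← pow_add,
        show (8 * P - 1) * (2 * j) + 2 * j = (8 * P) * (2 * j) by
          obtain ⟨t, ht⟩ : ∃ t, 8 * P = t + 1 := ⟨8 * P - 1, by omega⟩
          rw [ht, Nat.add_sub_cancel]; ring,
        pow_mul, ← hro', pow_orderOf_eq_one, one_pow, one_mul]
    · refine hyr2 ((8 * P - 1) * (2 * i + 1) + 2 * j) ?_
      rw [pow_add, ← hj, ← mul_assoc, ← pow_add,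
        show (8 * P - 1) * (2 * i + 1) + (2 * i + 1) = (8 * P) * (2 * i + 1) by
          obtain ⟨t, ht⟩ : ∃ t, 8 * P = t + 1 := ⟨8 * P - 1, by omega⟩
          rw [ht, Nat.add_sub_cancel]; ring,
        pow_mul, ← hro', pow_orderOf_eq_one, one_pow, one_mul]
    · have := hpar _ _ ((hmod _ _).mp (mul_right_cancel hj)); omega
  have hDS : D ≤ (S : Subgroup G) := by
    rintro g ⟨i, rfl | rfl⟩
    · exact pow_mem hrS _
    · exact mul_mem (pow_mem hrS _) hyS
  have hinvD : ∀ s ∈ (S : Subgroup G), s * s = 1 → s ∈ D := by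
    intro s hs h2
    obtain ⟨i, rfl | rfl⟩ := hSelt s hs
    · rw [← pow_add, ← pow_zero r, hmod, Nat.zero_mod] at h2
      have := Nat.dvd_of_mod_eq_zero h2
      obtain ⟨c, hc⟩ := this
      exact ⟨2 * P * c, Or.inl (by congr 1; linarith)⟩
    · rw [hyy, ← pow_zero r, hmod, Nat.zero_mod] at h2
      obtain ⟨c, hc⟩ := Nat.dvd_of_mod_eq_zero h2
      have hi : i % 2 = 0 := by
        have e1 : i + E * i = 4 * P * i := by
          rw [hE']
          obtain ⟨t, ht⟩ : ∃ t, 4 * P = t + 1 := ⟨4 * P - 1, by omega⟩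
          rw [ht, Nat.add_sub_cancel]; ring
        rw [e1, show 8 * P * c = 4 * P * (2 * c) by ring] at hc
        have := Nat.eq_of_mul_eq_mul_left (by omega) hc
        omega
      exact ⟨i / 2, Or.inr (by rw [show 2 * (i / 2) = i by omega])⟩
  -- an element of order four outside `D`
  set q := r * y with hq
  have hq2 : q ^ 2 = z := by
    rw [pow_two, hq]
    nth_rw 1 [← pow_one r]
    nth_rw 2 [← pow_one r]
    rw [hyy, mul_one, hz, hE', show 1 + (4 * P - 1) = 4 * P by omega]
  have hqS : q ∈ (S : Subgroup G) := mul_mem hrS hyS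
  have hq4 : q ^ 4 = 1 := by rw [show (4 : ℕ) = 2 * 2 from rfl, pow_mul, hq2, pow_two, hz2]
  have hrel : D.relIndex (S : Subgroup G) = 2 := by
    rw [relIndex]
    refine index_eq_two_iff.mpr ⟨⟨q, hqS⟩, fun b => ?_⟩
    obtain ⟨b, hb⟩ := b
    simp only [mem_subgroupOf, MulMemClass.coe_mul]
    obtain ⟨i, rfl | rfl⟩ := hSelt b hb
    · rcases Nat.even_or_odd' i with ⟨k, rfl | rfl⟩
      · refine Or.inr ⟨⟨k, Or.inl rfl⟩, ?_⟩
        rw [hq, ← mul_assoc, ← pow_succ]; exact (hrD k).2
      · refine Or.inl ⟨⟨k + 1, Or.inr ?_⟩, (hrD k).1⟩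
        rw [hq, ← mul_assoc, ← pow_succ]; congr 2
    · rw [hq]
      nth_rw 1 [← pow_one r]
      nth_rw 2 [← pow_one r]
      simp only [pow_one]
      have e1 : r ^ i * y * (r * y) = r ^ (i + E) := by
        have := hyy i 1; rwa [pow_one, mul_one] at this
      rw [e1]
      rcases Nat.even_or_odd' i with ⟨k, rfl | rfl⟩
      · refine Or.inr ⟨⟨k, Or.inr rfl⟩, ?_⟩
        rw [show 2 * k + E = 2 * (k + 2 * P - 1) + 1 by omega]
        exact (hrD _).1
      · exact Or.inl ⟨⟨k + 2 * P, Or.inl (by congr 1; omega)⟩, (hrD k).2⟩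
  -- the order-four elements of `D`
  set i₀ := r ^ (2 * P) with hi₀
  have hi2 : i₀ ^ 2 = z := by rw [hi₀, ← pow_mul, hz]; congr 1; ring
  have hD4 : ∀ g ∈ D, g ^ 2 = z → g = i₀ ∨ g = i₀⁻¹ := by
    rintro g ⟨i, rfl | rfl⟩ hg
    · rw [← pow_mul, hz, hmod, Nat.mod_eq_of_lt (show 4 * P < 8 * P by omega)] at hg
      have hd := Nat.div_add_mod (2 * i * 2) (8 * P)
      rw [hg] at hd
      have hi : i = P * (2 * (2 * i * 2 / (8 * P)) + 1) := by
        refine Nat.eq_of_mul_eq_mul_left (show 0 < 4 by norm_num) ?_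
        linarith
      obtain ⟨c, hc⟩ : ∃ c, c = 2 * i * 2 / (8 * P) := ⟨_, rfl⟩
      rw [← hc] at hi
      rcases Nat.even_or_odd' c with ⟨k, rfl | rfl⟩
      · left
        rw [hi₀, hi, hmod, show 2 * (P * (2 * (2 * k) + 1)) = 2 * P + 8 * P * k by ring,
          Nat.add_mul_mod_self_left]
      · right
        refine eq_inv_of_mul_eq_one_left ?_
        rw [hi₀, ← pow_add, hi, ← pow_zero r, hmod,
          show 2 * (P * (2 * (2 * k + 1) + 1)) + 2 * P = 8 * P * (k + 1) by ring,
          Nat.mul_mod_right, Nat.zero_mod]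
    · exfalso
      rw [pow_two, hyy] at hg
      have e1 : 2 * i + E * (2 * i) = 8 * P * i := by
        obtain ⟨t, ht⟩ : ∃ t, 4 * P = t + 1 := ⟨4 * P - 1, by omega⟩
        rw [hE', show 8 * P = 2 * (t + 1) by omega, ht, Nat.add_sub_cancel]; ring
      rw [e1, pow_mul, ← hro', pow_orderOf_eq_one, one_pow] at hg
      exact hz1 hg.symm
  have hqD : q ∉ D := by
    have := (hrD 0).2
    simpa [hq] using this
  -- some conjugate of `q` lies in `D`
  obtain ⟨g, hgS, hgD⟩ : ∃ g : G, g * q * g⁻¹ ∈ (S : Subgroup G) ∧ g * q * g⁻¹ ∈ D := by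
    by_contra hno
    push Not at hno
    obtain ⟨N, hN, hNi, -⟩ := transfer_four S D hrel hq4 hno (fun g hg => by
      refine hinvD _ hg ?_
      calc g * q ^ 2 * g⁻¹ * (g * q ^ 2 * g⁻¹) = g * (q ^ 2 * q ^ 2) * g⁻¹ := by group
        _ = 1 := by rw [hq2, hz2, mul_one, mul_inv_cancel])
    rcases hN.eq_bot_or_eq_top with rfl | rfl
    · rw [index_bot] at hNi
      haveI : IsCyclic G := isCyclic_of_prime_card hNi
      exact hna ⟨⟨fun a b => (IsCyclic.commGroup (α := G)).mul_comm a b⟩⟩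
    · rw [index_top] at hNi; omega
  have hgz : g * z * g⁻¹ = z := by
    have h1 : (g * q * g⁻¹) ^ 2 = g * z * g⁻¹ := by rw [conj_pow, hq2]
    have h4 : g * q * g⁻¹ ∈ D := hgD
    obtain ⟨i, hi | hi⟩ := hDmem.mp h4
    · -- a power of `r` squaring to an involution squares to `z`
      have h5 : (r ^ (2 * i)) ^ 2 * (r ^ (2 * i)) ^ 2 = 1 := by
        rw [← hi, h1]
        calc g * z * g⁻¹ * (g * z * g⁻¹) = g * (z * z) * g⁻¹ := by group
          _ = 1 := by rw [hz2, mul_one, mul_inv_cancel]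
      rw [hi] at h1
      rw [← h1]
      rw [← pow_mul, ← pow_add, ← pow_zero r, hmod, Nat.zero_mod] at h5
      obtain ⟨c, hc⟩ := Nat.dvd_of_mod_eq_zero h5
      have hiP : i = P * c := by
        refine Nat.eq_of_mul_eq_mul_left (show 0 < 8 by norm_num) ?_
        linarith
      rw [← pow_mul]
      rcases Nat.even_or_odd' c with ⟨k, rfl | rfl⟩
      · exfalso
        apply hz1
        have h6 : g * z * g⁻¹ = 1 := by
          rw [← h1, ← pow_mul, hiP, show 2 * (P * (2 * k)) * 2 = 8 * P * k by ring, pow_mul, ← hro',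
            pow_orderOf_eq_one, one_pow]
        exact conj_eq_one_iff.mp h6
      · rw [hiP, show 2 * (P * (2 * k + 1)) * 2 = (2 * k + 1) * (4 * P) by ring, hodd _ (by omega)]
    · exfalso
      rw [hi, pow_two, hyy] at h1
      have e1 : 2 * i + E * (2 * i) = 8 * P * i := by
        obtain ⟨t, ht⟩ : ∃ t, 4 * P = t + 1 := ⟨4 * P - 1, by omega⟩
        rw [hE', show 8 * P = 2 * (t + 1) by omega, ht, Nat.add_sub_cancel]; ring
      rw [e1, pow_mul, ← hro', pow_orderOf_eq_one, one_pow] at h1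
      exact hz1 (conj_eq_one_iff.mp h1.symm)
  have hgC : g ∈ C := mem_centralizer_singleton.mpr (mul_inv_eq_iff_eq_mul.mp hgz)
  -- `C` normalises `D`
  have hinvol : ∀ i : ℕ, ∀ c ∈ C, c * (r ^ (2 * i) * y) * c⁻¹ ∈ D := by
    intro i c hc
    set d := r ^ (2 * i) * y with hd
    have hdD : d ∈ D := ⟨i, Or.inr rfl⟩
    have hd2 : d * d = 1 := by
      rw [hd, hyy, show 2 * i + E * (2 * i) = 8 * P * i by
        obtain ⟨t, ht⟩ : ∃ t, 4 * P = t + 1 := ⟨4 * P - 1, by omega⟩
        rw [hE', show 8 * P = 2 * (t + 1) by omega, ht, Nat.add_sub_cancel]; ring,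
        pow_mul, ← hro', pow_orderOf_eq_one, one_pow]
    have hd1 : d ≠ 1 := fun e => hyr2 ((8 * P - 1) * (2 * i)) (by
      have e2 : y = (r ^ (2 * i))⁻¹ := eq_inv_of_mul_eq_one_right e
      rw [e2]
      refine inv_eq_of_mul_eq_one_right ?_
      rw [← pow_add, show 2 * i + (8 * P - 1) * (2 * i) = 8 * P * (2 * i) by
        obtain ⟨t, ht⟩ : ∃ t, 8 * P = t + 1 := ⟨8 * P - 1, by omega⟩
        rw [ht, Nat.add_sub_cancel]; ring, pow_mul, ← hro', pow_orderOf_eq_one, one_pow])
    have hdz : d ≠ z := fun e => hyr2 ((8 * P - 1) * (2 * i) + 4 * P) (by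
      rw [pow_add, ← hz, ← e, hd, ← mul_assoc, ← pow_add,
        show (8 * P - 1) * (2 * i) + 2 * i = 8 * P * (2 * i) by
          obtain ⟨t, ht⟩ : ∃ t, 8 * P = t + 1 := ⟨8 * P - 1, by omega⟩
          rw [ht, Nat.add_sub_cancel]; ring,
        pow_mul, ← hro', pow_orderOf_eq_one, one_pow, one_mul])
    let d' : C := ⟨d, hSC (hDS hdD)⟩
    obtain ⟨N, hN, hNp, hdN⟩ := mem_two_core h hz2 hz1 d'
      (orderOf_eq_prime (by rw [pow_two]; exact Subtype.ext hd2) fun e => hd1 (congrArg Subtype.val e))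
      hdz
    have hNS : N.map C.subtype ≤ (S : Subgroup G) := by
      have hle : (S : Subgroup G) ≤ normalizer ((N.map C.subtype : Subgroup G) : Set G) := by
        intro s hs
        rw [Subgroup.mem_normalizer_iff]
        intro x
        constructor
        · rintro ⟨w, hw, rfl⟩
          exact ⟨_, hN.conj_mem w hw ⟨s, hSC hs⟩, rfl⟩
        · rintro ⟨w, hw, hwx⟩
          refine ⟨_, hN.conj_mem w hw (⟨s, hSC hs⟩⁻¹), ?_⟩
          simp only [coe_subtype] at hwx
          simp only [coe_subtype, MulMemClass.coe_mul, InvMemClass.coe_inv, inv_inv]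
          rw [hwx]; group
      have hp : IsPGroup 2 ((S : Subgroup G) ⊔ N.map C.subtype : Subgroup G) :=
        IsPGroup.to_sup_of_normal_right' S.2 (hNp.map _) hle
      exact le_sup_right.trans (S.3 hp le_sup_left).le
    have hmem : c * d * c⁻¹ ∈ (S : Subgroup G) :=
      hNS ⟨⟨c, hc⟩ * d' * ⟨c, hc⟩⁻¹, hN.conj_mem d' hdN _, rfl⟩
    refine hinvD _ hmem ?_
    calc c * d * c⁻¹ * (c * d * c⁻¹) = c * (d * d) * c⁻¹ := by group
      _ = 1 := by rw [hd2, mul_one, mul_inv_cancel]
  have hnorm : ∀ d ∈ D, ∀ c ∈ C, c * d * c⁻¹ ∈ D := by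
    rintro d ⟨i, rfl | rfl⟩ c hc
    · have h0 := hinvol 0 c hc
      rw [Nat.mul_zero, pow_zero, one_mul] at h0
      have := mul_mem (hinvol i c hc) h0
      rwa [show c * (r ^ (2 * i) * y) * c⁻¹ * (c * y * c⁻¹) = c * (r ^ (2 * i) * (y * y)) * c⁻¹ by
        group, hy2, mul_one] at this
    · exact hinvol i c hc
  refine hqD ?_
  have := hnorm _ hgD g⁻¹ (inv_mem hgC)
  rwa [inv_inv, show g⁻¹ * (g * q * g⁻¹) * g = q by group] at this

/-- A non-abelian simple group with this property is `PSL(2, q)`, `q` odd, with involution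
centralisers of 2-power order. -/
theorem exists_psl (h : SCN G) (hna : ¬ IsMulCommutative G) :
    ∃ z : G, orderOf z = 2 ∧ (∃ k : ℕ, Nat.card (centralizer ({z} : Set G)) = 2 ^ k) ∧
      ∃ (F : Type) (_ : Field F) (_ : Fintype F), Odd (Fintype.card F) ∧
        Nonempty (G ≃* Matrix.ProjectiveSpecialLinearGroup (Fin 2) F) := by
  classical
  haveI : Fact (Nat.Prime 2) := ⟨Nat.prime_two⟩
  have heven := not_odd h hna
  obtain ⟨E, hE⟩ : ∃ E : Subgroup G, IsKleinFour E := by
    by_contra hno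
    push Not at hno
    obtain ⟨z, hz, N, hN, hNodd, hcomm⟩ := S0225.result heven hno
    rcases hN.eq_bot_or_eq_top with rfl | rfl
    · have hzc : z ∈ center G := mem_center_iff.mpr fun g => by
        have h1 := mul_inv_eq_one.mp (mem_bot.mp (hcomm g))
        exact (mul_inv_eq_iff_eq_mul.mp h1).symm
      rcases (inferInstance : (center G).Normal).eq_bot_or_eq_top with h2 | h2
      · rw [h2, mem_bot] at hzc; exact ne_one_of_orderOf hz hzc
      · exact hna ⟨⟨fun a b => mem_center_iff.mp (h2 ▸ mem_top b : b ∈ center G) a⟩⟩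
    · rw [card_top] at hNodd
      exact Nat.not_even_iff_odd.mpr hNodd heven
  obtain ⟨S, hES⟩ := (IsPGroup.of_card (n := 2) (by rw [hE.card_four]; rfl) : IsPGroup 2 E).exists_le_sylow
  haveI : Nontrivial (S : Subgroup G) := by
    refine Finite.one_lt_card_iff_nontrivial.mp ?_
    have := card_le_of_le hES
    rw [hE.card_four] at this
    omega
  haveI := S.2.center_nontrivial
  obtain ⟨k, hk⟩ := IsPGroup.iff_card.mp ((S.2).to_subgroup (center (S : Subgroup G)))
  obtain ⟨z', hz'⟩ := exists_prime_orderOf_dvd_card' (G := center (S : Subgroup G)) 2 (by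
    have h1 := Finite.one_lt_card (α := center (S : Subgroup G))
    rw [hk] at h1 ⊢
    exact dvd_pow_self 2 fun h0 => by simp [h0] at h1)
  obtain ⟨z, hzdef⟩ : ∃ z : G, z = ((z' : (S : Subgroup G)) : G) := ⟨_, rfl⟩
  have hzS : z ∈ (S : Subgroup G) := hzdef ▸ (z' : (S : Subgroup G)).2
  have hz : orderOf z = 2 := by rw [hzdef, orderOf_coe, orderOf_coe, hz']
  have hzc : ∀ s ∈ (S : Subgroup G), s * z = z * s := fun s hs => by
    rw [hzdef]; exact congrArg Subtype.val (mem_center_iff.mp z'.2 ⟨s, hs⟩)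
  obtain ⟨a, ha, haS, hne⟩ : ∃ a : G, orderOf a = 2 ∧ a ∈ (S : Subgroup G) ∧ a ≠ z := by
    have hex : ∃ a : E, a ≠ 1 ∧ (a : G) ≠ z := by
      by_contra hno
      push Not at hno
      have hle : Nat.card E ≤ Nat.card ({1, z} : Finset G) :=
        Nat.card_le_card_of_injective (fun e => ⟨(e : G), by
          by_cases he : e = 1
          · simp [he]
          · simp [hno e he]⟩) fun a b hab => Subtype.ext (congrArg (fun x : ({1, z} : Finset G) => (x : G)) hab)
      rw [hE.card_four, Nat.card_eq_finsetCard] at hle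
      have h2 : ({1, z} : Finset G).card ≤ 2 := Finset.card_le_two
      omega
    obtain ⟨a, ha1, haz⟩ := hex
    refine ⟨a, orderOf_eq_prime ?_ (fun e => ha1 (Subtype.ext e)), hES a.2, haz⟩
    have h2 := Monoid.pow_exponent_eq_one a
    rw [hE.exponent_two] at h2
    simpa using congrArg Subtype.val h2
  have haz := hzc a haS
  have hzz := mul_self_of_orderOf hz
  have haa := mul_self_of_orderOf ha
  -- the centraliser of `a` in `S` has order four
  have hfour : Nat.card (centralizer ({(⟨a, haS⟩ : (S : Subgroup G))} : Set (S : Subgroup G))) = 4 := by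
    set A : (S : Subgroup G) := ⟨a, haS⟩ with hA
    set Zz : (S : Subgroup G) := ⟨z, hzS⟩ with hZz
    have hset : ∀ s : (S : Subgroup G), s ∈ centralizer ({A} : Set (S : Subgroup G)) ↔
        s ∈ ({1, A, Zz, A * Zz} : Finset (S : Subgroup G)) := by
      intro s
      rw [mem_centralizer_singleton]
      simp only [Finset.mem_insert, Finset.mem_singleton]
      constructor
      · intro hs
        rcases pair h haa hzz (ne_one_of_orderOf ha) (ne_one_of_orderOf hz) hne haz
          (congrArg Subtype.val hs) (hzc s s.2) with e | e | e | e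
        · exact Or.inl (Subtype.ext e)
        · exact Or.inr (Or.inl (Subtype.ext e))
        · exact Or.inr (Or.inr (Or.inl (Subtype.ext e)))
        · exact Or.inr (Or.inr (Or.inr (Subtype.ext e)))
      · rintro (rfl | rfl | rfl | rfl)
        · simp
        · rfl
        · exact (Subtype.ext haz : A * Zz = Zz * A).symm
        · exact ((Commute.refl A).mul_left ((Subtype.ext haz : A * Zz = Zz * A).symm : Commute Zz A)).eq
    haveI := Fintype.ofFinite (S : Subgroup G)
    rw [Nat.card_congr (Equiv.subtypeEquivRight hset), Nat.card_eq_finsetCard]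
    have e1 : a * z ≠ 1 := fun e => hne ((eq_inv_of_mul_eq_one_left e).trans (inv_of_orderOf hz))
    have e2 : a * z ≠ a := fun e => ne_one_of_orderOf hz (mul_eq_left.mp e)
    have e3 : a * z ≠ z := fun e => ne_one_of_orderOf ha (mul_eq_right.mp e)
    rw [Finset.card_insert_of_notMem, Finset.card_insert_of_notMem, Finset.card_pair]
    · exact fun e => e3 (congrArg Subtype.val e).symm
    · simp only [Finset.mem_insert, Finset.mem_singleton, not_or]
      exact ⟨fun e => hne (congrArg Subtype.val e), fun e => e2 (congrArg Subtype.val e).symm⟩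
    · simp only [Finset.mem_insert, Finset.mem_singleton, not_or]
      exact ⟨fun e => ne_one_of_orderOf ha (congrArg Subtype.val e).symm,
        fun e => ne_one_of_orderOf hz (congrArg Subtype.val e).symm,
        fun e => e1 (congrArg Subtype.val e).symm⟩
  rcases InvChar68.classification_centralizer_four S.2 (⟨a, haS⟩ : (S : Subgroup G))
    (by rw [orderOf_mk, ha]) hfour with ⟨n, ⟨f⟩⟩ | hqd | h4
  · have hn : 2 ≤ n := by
      have h1 := card_le_of_le hES
      rw [hE.card_four, Nat.card_congr f.toEquiv, DihedralGroup.nat_card] at h1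
      omega
    exact ⟨z, hz, dihedral_case h S n hn ⟨f⟩ hz hzS hzc ha haS hne⟩
  · exact (not_quasiDihedral h hna S hqd).elim
  · have heq : E = (S : Subgroup G) := eq_of_le_of_card_ge hES (by rw [hE.card_four, h4])
    haveI : IsKleinFour ↥(S : Subgroup G) := heq ▸ hE
    exact ⟨z, hz, dihedral_case h S 2 le_rfl IsKleinFour.nonempty_mulEquiv hz hzS hzc ha haS hne⟩

end Cfsg.Agent.SelfCentNC
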