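import Cfsg.Agent.OddLocal43.RankTwoSolvable
import Cfsg.Agent.Lib.Transfer.Frobenius
import Cfsg.Agent.Lib.Involution.BaerSuzuki
import Cfsg.Agent.Lib.Involution.Counting
import Cfsg.Agent.BSW7.Common
import Cfsg.Agent.S0206

/-!
# Self-centralising non-cyclic subgroups: local consequences
-/

set_option autoImplicit false
set_option linter.unusedSectionVars false

namespace Cfsg.Agent.SelfCentNC

open Subgroup

/-- Every non-cyclic subgroup contains its centraliser. -/
def SCN (G : Type*) [Group G] : Prop :=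
  ∀ H : Subgroup G, ¬ IsCyclic ↥H → centralizer (H : Set G) ≤ H

variable {G : Type*} [Group G]

theorem SCN.of_mulEquiv {K : Type*} [Group K] (f : G ≃* K) (h : SCN K) : SCN G := by
  intro H hH x hx
  have hc : ¬ IsCyclic ↥(H.map f.toMonoidHom) := fun hc => by
    exact hH ((H.equivMapOfInjective f.toMonoidHom f.injective).isCyclic.mpr hc)
  have := h _ hc (x := f x) (by
    rw [mem_centralizer_iff]
    rintro _ ⟨y, hy, rfl⟩
    show f y * f x = f x * f y
    rw [← map_mul, ← map_mul, mem_centralizer_iff.mp hx y hy])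
  obtain ⟨y, hy, hyx⟩ := this
  exact f.injective hyx ▸ hy

variable [Finite G]

theorem SCN.pRankLE (h : SCN G) {p : ℕ} [hp : Fact p.Prime] : Cfsg.PRankLE p 2 G := by
  intro A hA hAp
  by_contra hlt
  push Not at hlt
  have hpA : IsPGroup p A := fun a => ⟨1, Subtype.ext (by simpa using hAp a a.2)⟩
  obtain ⟨k, hk⟩ := IsPGroup.iff_card.mp hpA
  rw [hk] at hlt
  have hk2 : 2 < k := (Nat.pow_lt_pow_iff_right hp.out.one_lt).mp hlt
  obtain ⟨F, hF⟩ := Sylow.exists_subgroup_card_pow_prime p
    (G := A) (n := 2) (hk ▸ pow_dvd_pow p hk2.le)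
  set F' := F.map A.subtype with hF'
  have hF'c : Nat.card F' = p ^ 2 := by rw [hF', card_map_of_injective A.subtype_injective, hF]
  have hnc : ¬ IsCyclic ↥F' := by
    intro hc
    obtain ⟨g, hg⟩ := IsCyclic.exists_ofOrder_eq_natCard (α := F')
    have hdvd : orderOf g ∣ p := orderOf_dvd_of_pow_eq_one (Subtype.ext (by
      rw [SubmonoidClass.coe_pow, OneMemClass.coe_one]
      exact hAp _ (map_subtype_le F g.2)))
    rw [hg, hF'c] at hdvd
    have := Nat.le_of_dvd hp.out.pos hdvd
    nlinarith [hp.out.two_le]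
  have hle : A ≤ F' := fun a ha => h F' hnc (mem_centralizer_iff.mpr fun y hy =>
    congrArg Subtype.val (hA.is_comm.comm (⟨y, map_subtype_le F hy⟩ : A) ⟨a, ha⟩))
  have := card_le_of_le hle
  rw [hF'c, hk] at this
  have := (Nat.pow_le_pow_iff_right hp.out.one_lt).mp this
  omega

/-- A simple group of odd order with this property is abelian. -/
theorem not_odd (h : SCN G) [IsSimpleGroup G] (hna : ¬ IsMulCommutative G) :
    Even (Nat.card G) := by
  by_contra hne
  have hodd : Odd (Nat.card G) := Nat.not_even_iff_odd.mp hne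
  have h1 : Nat.card G ≠ 1 := fun h1 => by
    haveI := Finite.one_lt_card (α := G)
    omega
  obtain ⟨p, hp, hpG⟩ : ∃ p, p.Prime ∧ p ∣ Nat.card G ∧ ∀ q, q.Prime → q ∣ Nat.card G → p ≤ q :=
    ⟨_, Nat.minFac_prime h1, Nat.minFac_dvd _, fun q hq hd => Nat.minFac_le_of_dvd hq.two_le hd⟩
  haveI := Fact.mk hp
  have hp2 : p ≠ 2 := OddLocal43.ne_two_of_dvd_odd hodd hpG.1
  obtain ⟨P⟩ : Nonempty (Sylow p G) := inferInstance
  have hcomp : Cfsg.HasNormalPComplement p G := by
    refine Transfer.hasNormalPComplement_of_normalizer_centralizer P fun Q hQP _ g hg hgp => ?_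
    have hQ : IsPGroup p Q := P.2.to_le hQP
    have hr : Cfsg.PRankLE p 2 ↥Q :=
      OddLocal43.prankLE_of_injective Q.subtype Q.subtype_injective h.pRankLE
    set N := normalizer (Q : Set G)
    set C := (centralizer (Q : Set G)).subgroupOf N
    -- the `p'`-elements of the normaliser centralise `Q`
    have hstep : ∀ n : ℕ, ∀ x ∈ N, orderOf x = n → n.Coprime p → x ∈ centralizer (Q : Set G) := by
      intro n
      induction n using Nat.recOnPrimeCoprime with
      | zero => intro x _ hx _; exact absurd hx (orderOf_pos x).ne'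
      | prime_pow q k hq =>
        intro x hxN hx hcop
        rcases Nat.eq_zero_or_pos k with rfl | hk
        · rw [pow_zero, orderOf_eq_one_iff] at hx
          rw [hx]; exact one_mem _
        have hqG : q ∣ Nat.card G := (dvd_pow_self q hk.ne').trans (hx ▸ orderOf_dvd_natCard x)
        have hqp : q ≠ p := fun e => by
          subst e
          exact hq.ne_one (Nat.dvd_one.mp (hcop ▸ Nat.dvd_gcd (dvd_pow_self q hk.ne') dvd_rfl))
        exact OddLocal43.prime_pow_mem_centralizer hp2 hQ hr hxN hq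
          (OddLocal43.ne_two_of_dvd_odd hodd hqG)
          (lt_of_le_of_ne (hpG.2 q hq hqG) hqp.symm) hx.dvd
      | coprime a b ha hb hab iha ihb =>
        intro x hxN hx hcop
        have h1 : x ^ a ∈ centralizer (Q : Set G) := ihb _ (pow_mem hxN _)
          (by rw [orderOf_pow, hx, Nat.gcd_eq_right (dvd_mul_right a b), Nat.mul_div_cancel_left _ (by omega)])
          hcop.coprime_mul_left
        have h2 : x ^ b ∈ centralizer (Q : Set G) := iha _ (pow_mem hxN _)
          (by rw [orderOf_pow, hx, Nat.gcd_eq_right (dvd_mul_left b a), Nat.mul_div_cancel _ (by omega)])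
          hcop.coprime_mul_right
        have hbz : x = (x ^ a) ^ Nat.gcdA a b * (x ^ b) ^ Nat.gcdB a b := by
          rw [← zpow_natCast x a, ← zpow_natCast x b, ← zpow_mul, ← zpow_mul, ← zpow_add,
            ← Nat.gcd_eq_gcd_ab, hab.gcd_eq_one, Nat.cast_one, zpow_one]
        rw [hbz]
        exact mul_mem (zpow_mem h1 _) (zpow_mem h2 _)
    exact hstep _ g hg rfl hgp
  obtain ⟨P', K, hK, hcompl⟩ := hcomp
  have hcard := hcompl.card_mul
  have hpP : p ∣ Nat.card (P' : Subgroup G) := P'.dvd_card_of_dvd_card hpG.1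
  rcases hK.eq_bot_or_eq_top with rfl | rfl
  · rw [card_bot, one_mul] at hcard
    have hP : IsPGroup p G := by
      obtain ⟨k, hk⟩ := IsPGroup.iff_card.mp P'.2
      exact IsPGroup.of_card (hcard ▸ hk)
    haveI := IsPGroup.center_nontrivial hP
    rcases (inferInstance : (center G).Normal).eq_bot_or_eq_top with h2 | h2
    · exact (center G).nontrivial_iff_ne_bot.mp inferInstance h2
    · exact hna ⟨⟨fun a b => mem_center_iff.mp (h2 ▸ mem_top b : b ∈ center G) a⟩⟩
  · rw [card_top, Nat.mul_eq_left Nat.card_pos.ne'] at hcard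
    rw [hcard] at hpP
    exact hp.ne_one (Nat.dvd_one.mp hpP)

/-- Two commuting involutions are the only source of elements commuting with both. -/
theorem pair (h : SCN G) {a b x : G} (ha : a * a = 1) (hb : b * b = 1) (ha1 : a ≠ 1) (hb1 : b ≠ 1)
    (hne : a ≠ b) (hab : a * b = b * a) (hxa : x * a = a * x) (hxb : x * b = b * x) :
    x = 1 ∨ x = a ∨ x = b ∨ x = a * b := by
  have haab : a * (a * b) = b := by rw [← mul_assoc, ha, one_mul]
  have habb : a * b * b = a := by rw [mul_assoc, hb, mul_one]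
  have haba : a * b * a = b := by rw [hab, mul_assoc, ha, mul_one]
  have hbab : b * (a * b) = a := by rw [← mul_assoc, ← hab, mul_assoc, hb, mul_one]
  let V : Subgroup G :=
    { carrier := {g | g = 1 ∨ g = a ∨ g = b ∨ g = a * b}
      one_mem' := Or.inl rfl
      mul_mem' := by
        rintro p q (rfl | rfl | rfl | rfl) (rfl | rfl | rfl | rfl) <;>
          simp [ha, hb, haab, habb, haba, hbab, hab.symm, mul_assoc]
      inv_mem' := by
        rintro p (rfl | rfl | rfl | rfl)
        · exact Or.inl inv_one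
        · exact Or.inr (Or.inl (inv_eq_of_mul_eq_one_right ha))
        · exact Or.inr (Or.inr (Or.inl (inv_eq_of_mul_eq_one_right hb)))
        · refine Or.inr (Or.inr (Or.inr (inv_eq_of_mul_eq_one_right ?_)))
          rw [← mul_assoc, haba, hb] }
  have hsq : ∀ g ∈ V, g * g = 1 := by
    rintro g (rfl | rfl | rfl | rfl)
    · exact one_mul _
    · exact ha
    · exact hb
    · rw [← mul_assoc, haba, hb]
  have haV : a ∈ V := Or.inr (Or.inl rfl)
  have hbV : b ∈ V := Or.inr (Or.inr (Or.inl rfl))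
  have hnc : ¬ IsCyclic ↥V := by
    intro hc
    obtain ⟨g, hg⟩ := hc.exists_generator
    have key : ∀ c : V, c = 1 ∨ c = g := by
      intro c
      obtain ⟨n, rfl⟩ := mem_zpowers_iff.mp (hg c)
      have hg2 : g * g = 1 := Subtype.ext (hsq g g.2)
      rcases Int.even_or_odd' n with ⟨m, rfl | rfl⟩
      · left; rw [zpow_mul, zpow_two, hg2, one_zpow]
      · right; rw [zpow_add, zpow_mul, zpow_two, hg2, one_zpow, one_mul, zpow_one]
    have k1 := (key ⟨a, haV⟩).resolve_left fun e => ha1 (congrArg Subtype.val e)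
    have k2 := (key ⟨b, hbV⟩).resolve_left fun e => hb1 (congrArg Subtype.val e)
    exact hne (congrArg Subtype.val (k1.trans k2.symm))
  exact h V hnc (mem_centralizer_iff.mpr fun g hg => by
    rcases hg with rfl | rfl | rfl | rfl
    · simp
    · exact hxa.symm
    · exact hxb.symm
    · exact ((Commute.mul_right hxa hxb) : Commute x (a * b)).symm)

/-- An involution inverts no nontrivial element of odd order commuting with another involution. -/
theorem no_inverted (h : SCN G) {a z y : G} (ha : a * a = 1) (hz : z * z = 1) (hz1 : z ≠ 1)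
    (hne : a ≠ z) (haz : a * z = z * a) (hyz : y * z = z * y) (hy : Odd (orderOf y))
    (hinv : a * y * a⁻¹ = y⁻¹) : y = 1 := by
  by_contra hy1
  have hy2 : y * y ≠ 1 := by
    intro e
    have := orderOf_dvd_of_pow_eq_one (show y ^ 2 = 1 by rw [pow_two]; exact e)
    rcases (Nat.dvd_prime Nat.prime_two).mp this with e1 | e1
    · exact hy1 (orderOf_eq_one_iff.mp e1)
    · rw [e1] at hy; exact absurd hy (by decide)
  have hay : ∀ i : ℤ, a * y ^ i = y ^ (-i) * a := by
    intro i
    rw [zpow_neg, ← inv_zpow, ← hinv, conj_zpow, inv_mul_cancel_right]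
  let D : Subgroup G :=
    { carrier := {g | ∃ i : ℤ, g = y ^ i ∨ g = y ^ i * a}
      one_mem' := ⟨0, Or.inl (zpow_zero y).symm⟩
      mul_mem' := by
        rintro p q ⟨i, rfl | rfl⟩ ⟨j, rfl | rfl⟩
        · exact ⟨i + j, Or.inl (zpow_add y i j).symm⟩
        · exact ⟨i + j, Or.inr (by rw [zpow_add, mul_assoc])⟩
        · exact ⟨i + -j, Or.inr (by rw [zpow_add, mul_assoc, hay, mul_assoc])⟩
        · refine ⟨i + -j, Or.inl ?_⟩
          rw [zpow_add, mul_assoc, ← mul_assoc a, hay, mul_assoc, ha, mul_one]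
      inv_mem' := by
        rintro p ⟨i, rfl | rfl⟩
        · exact ⟨-i, Or.inl (zpow_neg y i).symm⟩
        · refine ⟨i, Or.inr ?_⟩
          rw [mul_inv_rev, inv_eq_of_mul_eq_one_right ha, ← zpow_neg, hay, neg_neg] }
  have hyD : y ∈ D := ⟨1, Or.inl (zpow_one y).symm⟩
  have haD : a ∈ D := ⟨0, Or.inr (by rw [zpow_zero, one_mul])⟩
  have hnc : ¬ IsCyclic ↥D := by
    intro hc
    letI := IsCyclic.commGroup (α := D)
    have := congrArg Subtype.val (mul_comm (⟨a, haD⟩ : D) ⟨y, hyD⟩)
    simp only [MulMemClass.coe_mul] at this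
    rw [this, mul_inv_cancel_right] at hinv
    exact hy2 (eq_inv_iff_mul_eq_one.mp hinv)
  have hzD : z ∈ D := h D hnc (mem_centralizer_iff.mpr fun g hg => by
    obtain ⟨i, rfl | rfl⟩ := hg
    · exact (Commute.zpow_left (hyz : Commute y z) i).eq
    · exact ((Commute.zpow_left (hyz : Commute y z) i).mul_left (haz : Commute a z)).eq)
  obtain ⟨i, hi | hi⟩ := hzD
  · have h1 : orderOf z ∣ orderOf y := by
      rw [hi]; exact orderOf_dvd_of_mem_zpowers (zpow_mem (mem_zpowers y) i)
    rw [orderOf_eq_prime (p := 2) (by rw [pow_two]; exact hz) hz1] at h1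
    exact Nat.not_even_iff_odd.mpr hy (even_iff_two_dvd.mpr h1)
  · have h1 : a * y = y * a := by
      have e : a = y ^ (-i) * z := by rw [hi, zpow_neg, inv_mul_cancel_left]
      rw [e]
      exact ((((Commute.refl y).zpow_right (-i)).mul_right (hyz : Commute y z)).symm).eq
    rw [h1, mul_inv_cancel_right] at hinv
    exact hy2 (eq_inv_iff_mul_eq_one.mp hinv)

/-- A subgroup of odd order centralised by `z` and normalised by another involution commuting
with `z` is trivial. -/
theorem odd_eq_bot (h : SCN G) {a z : G} (ha : a * a = 1) (ha1 : a ≠ 1) (hz : z * z = 1)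
    (hz1 : z ≠ 1) (hne : a ≠ z) (haz : a * z = z * a) (R : Subgroup G) (hR : Odd (Nat.card R))
    (hRz : ∀ r ∈ R, r * z = z * r) (hRa : ∀ r ∈ R, a * r * a⁻¹ ∈ R) : R = ⊥ := by
  rw [Subgroup.eq_bot_iff_forall]
  intro r hr
  have hodd : ∀ x ∈ R, Odd (orderOf x) := fun x hx => hR.of_dvd_nat (R.orderOf_dvd_natCard hx)
  refine no_inverted h ha hz hz1 hne haz (hRz r hr) (hodd r hr) ?_
  refine BSW7.inverts_of_fpf ha hRa (fun x hx hfix => ?_) hr
  have key : ∀ w : G, w * w = 1 → w ∈ R → w = 1 := by
    intro w hw hwR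
    by_contra hw1
    have h2 := hodd w hwR
    rw [orderOf_eq_prime (p := 2) (by rw [pow_two]; exact hw) hw1] at h2
    exact absurd h2 (by decide)
  refine key x ?_ hx
  rcases pair h ha hz ha1 hz1 hne haz (mul_inv_eq_iff_eq_mul.mp hfix).symm (hRz x hx) with
    rfl | rfl | rfl | rfl
  · exact one_mul 1
  · exact ha
  · exact hz
  · calc a * z * (a * z) = a * (z * a) * z := by group
      _ = a * (a * z) * z := by rw [haz]
      _ = (a * a) * (z * z) := by group
      _ = 1 := by rw [ha, hz, one_mul]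

/-- An involution commuting with `z`, other than `z`, lies in a normal 2-subgroup of `C(z)`. -/
theorem mem_two_core (h : SCN G) {z : G} (hz : z * z = 1) (hz1 : z ≠ 1)
    (a : centralizer ({z} : Set G)) (ha : orderOf a = 2) (hne : (a : G) ≠ z) :
    ∃ N : Subgroup (centralizer ({z} : Set G)), N.Normal ∧ IsPGroup 2 N ∧ a ∈ N := by
  haveI : Fact (Nat.Prime 2) := ⟨Nat.prime_two⟩
  refine Involution.baerSuzuki (p := 2) a fun g => ?_
  set b := g * a * g⁻¹ with hb
  have hb2 : orderOf b = 2 := by rw [hb, ← MulAut.conj_apply, MulEquiv.orderOf_eq, ha]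
  rcases eq_or_ne a b with e | e
  · rw [← e, Set.pair_eq_singleton, ← zpowers_eq_closure]
    exact IsPGroup.of_card (n := 1) (by rw [Nat.card_zpowers, ha, pow_one])
  obtain ⟨f⟩ := Cfsg.Agent.S0206.result a b ha hb2 e
  set x := a * b
  have hax : a * x * a⁻¹ = x⁻¹ :=
    Involution.conj_eq_inv_of_pair (x := x) ha hb2 rfl
  obtain ⟨k, m, hm, hkm⟩ := Nat.exists_eq_two_pow_mul_odd (orderOf_pos x).ne'
  have hy : ((x ^ 2 ^ k : centralizer ({z} : Set G)) : G) = 1 := by
    refine no_inverted h (a := (a : G)) (z := z) ?_ hz hz1 hne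
      (mem_centralizer_singleton_iff.mp a.2) (mem_centralizer_singleton_iff.mp (x ^ 2 ^ k).2) ?_ ?_
    · exact congrArg Subtype.val (Involution.mul_self_of_orderOf ha)
    · rw [orderOf_coe, orderOf_pow, hkm, Nat.gcd_mul_right_left, Nat.mul_div_cancel_left _ (by positivity)]
      exact hm
    · have h1 := congrArg Subtype.val (congrArg (fun w => w ^ 2 ^ k) hax)
      simpa [conj_pow, inv_pow] using h1
  have hxk : orderOf x ∣ 2 ^ k := orderOf_dvd_of_pow_eq_one (Subtype.ext hy)
  obtain ⟨j, -, hj⟩ := (Nat.dvd_prime_pow Nat.prime_two).mp hxk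
  refine IsPGroup.of_card (n := j + 1) ?_
  rw [Nat.card_congr f.toEquiv, DihedralGroup.nat_card, hj, pow_succ']

end Cfsg.Agent.SelfCentNC
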